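import Cfsg.Agent.INV.SCS.Val
import Cfsg.Agent.INV.Def1
import Cfsg.Agent.CHAR.Galois

/-! Strongly self-centralizing subgroups of index two in their normalizer: centralizer orders. -/

set_option autoImplicit false
open Cfsg CL.PF CL.Char CL.Odd Subgroup CL.SCS
open scoped Classical ComplexConjugate

namespace CL.Ix2

variable {G : Type*} [Group G] [Finite G]

theorem sum_split {S : Finset G} (hS : ∀ g ∈ S, ∀ k, IsConj g k → k ∈ S) {F : G → ℕ}
    (hF : ∀ g k, IsConj g k → F k = F g) {g : G} (hg : g ∈ S) :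
    ∑ x ∈ S, F x = (centralizer ({g} : Set G)).index * F g + ∑ x ∈ S \ fs {u | IsConj g u}, F x := by
  rw [← Finset.sum_sdiff (s₁ := fs {u | IsConj g u}) fun k hk => hS g hg k (by simpa using hk),
    add_comm, Finset.sum_congr rfl (g := fun _ => F g) fun k hk => hF g k (by simpa using hk),
    Finset.sum_const, card_class, smul_eq_mul]

theorem class_sum (M : AddSubmonoid ℕ) {F s : G → ℕ} (hF : ∀ g k, IsConj g k → F k = F g) :
    ∀ (n : ℕ) (S : Finset G), S.card ≤ n → (∀ g ∈ S, ∀ k, IsConj g k → k ∈ S) →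
      (∀ g ∈ S, s g ∣ (centralizer ({g} : Set G)).index ∧ s g * F g ∈ M) →
      ∀ W : List G, (∀ w ∈ W, w ∈ S) → W.Pairwise (fun a b => ¬ IsConj a b) →
        ∃ B ∈ M, ∑ x ∈ S, F x = (W.map fun w => s w * F w).sum + B := by
  intro n
  induction n with
  | zero =>
    intro S h0 _ _ W hW _
    obtain rfl : S = ∅ := Finset.card_eq_zero.1 (by omega)
    obtain rfl : W = [] := List.eq_nil_iff_forall_not_mem.2 fun w hw => by simpa using hW w hw
    exact ⟨0, M.zero_mem, by simp⟩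
  | succ n ih =>
    intro S h0 hS hs W hW hp
    have key : ∀ g ∈ S, ∀ W' : List G, (∀ w ∈ W', w ∈ S ∧ ¬ IsConj g w) →
        W'.Pairwise (fun a b => ¬ IsConj a b) → ∃ B ∈ M, ∑ x ∈ S, F x =
          s g * F g + (W'.map fun w => s w * F w).sum + B := fun g hg W' h1 h2 => by
      obtain ⟨B, hB, e⟩ := ih (S \ fs {u | IsConj g u}) (by
        have := Finset.card_lt_card (Finset.sdiff_ssubset
          (fun k hk => hS g hg k (by simpa using hk)) ⟨g, mem_fs.2 (IsConj.refl g)⟩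
          (t := fs {u | IsConj g u}))
        omega) (fun a ha k hk => by
          simp only [Finset.mem_sdiff, mem_fs, Set.mem_setOf_eq] at ha ⊢
          exact ⟨hS a ha.1 k hk, fun e => ha.2 (e.trans hk.symm)⟩)
        (fun a ha => hs a (Finset.mem_sdiff.1 ha).1) W' (fun w hw => by simpa using h1 w hw) h2
      obtain ⟨m, hm⟩ := (hs g hg).1
      obtain ⟨m, rfl⟩ := Nat.exists_eq_succ_of_ne_zero (n := m) (by
        rintro rfl; exact FiniteIndex.index_ne_zero hm)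
      refine ⟨m • (s g * F g) + B, M.add_mem (M.nsmul_mem (hs g hg).2 m) hB, ?_⟩
      rw [sum_split hS hF hg, e, hm, smul_eq_mul, Nat.succ_eq_add_one]; ring
    cases W with
    | nil =>
      rcases S.eq_empty_or_nonempty with rfl | ⟨g, hg⟩
      · exact ⟨0, M.zero_mem, by simp⟩
      · obtain ⟨B, hB, e⟩ := key g hg [] (by simp) .nil
        exact ⟨s g * F g + B, M.add_mem (hs g hg).2 hB, by simpa using e⟩
    | cons w W =>
      rw [List.pairwise_cons] at hp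
      simpa using key w (hW w (by simp)) W (fun a ha => ⟨hW a (by simp [ha]), hp.1 a ha⟩) hp.2

theorem exists_cent {r : ℕ} (hr : r.Prime) (h : r ∣ Nat.card G) : ∃ w : G, orderOf w = r ∧
    ∀ k, r ^ k ∣ Nat.card G → r ^ k ∣ Nat.card (centralizer ({w} : Set G)) := by
  have := Fact.mk hr
  obtain ⟨P⟩ : Nonempty (Sylow r G) := inferInstance
  have : Nontrivial P := Finite.one_lt_card_iff_nontrivial.1
    (hr.one_lt.trans_le (Nat.le_of_dvd Nat.card_pos (P.dvd_card_of_dvd_card h)))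
  have := P.2.center_nontrivial
  obtain ⟨n, hn, e⟩ := (P.2.to_subgroup (center P)).nontrivial_iff_card.1 this
  obtain ⟨z, hz⟩ := exists_prime_orderOf_dvd_card' (G := center P) r (e ▸ dvd_pow_self r hn.ne')
  refine ⟨z.1.1, by rw [orderOf_coe, orderOf_coe, hz], fun k hk => ?_⟩
  refine (P.pow_dvd_card_of_pow_dvd_card hk).trans (card_dvd_of_le fun g hg => ?_)
  exact mem_centralizer_singleton_iff.2 (congrArg Subtype.val (mem_center_iff.1 z.2 ⟨g, hg⟩))

theorem card_cent_conj {g k : G} (h : IsConj g k) :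
    Nat.card (centralizer ({k} : Set G)) = Nat.card (centralizer ({g} : Set G)) := by
  have h1 := (centralizer ({k} : Set G)).card_mul_index
  have h2 := (centralizer ({g} : Set G)).card_mul_index
  have h3 : (centralizer ({k} : Set G)).index = (centralizer ({g} : Set G)).index := by
    rw [← card_class, ← card_class]
    congr 2
    exact Set.ext fun u => ⟨h.trans, h.symm.trans⟩
  rw [h3, ← h2] at h1
  exact Nat.eq_of_mul_eq_mul_right (Nat.pos_of_ne_zero FiniteIndex.index_ne_zero) h1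

theorem sum_nonneg {H : Subgroup G} {ψ : G → ℂ} (hψ : ψ ∈ Irr (⊤ : Subgroup G)) {v : G → ℤ}
    (hv : ∀ g ∈ H, ψ g = v g) : 0 ≤ ∑ g ∈ fs (H : Set G), v g := by
  obtain ⟨k, hk⟩ := ((Irr.isChar hψ).res le_top).exists_nat_ip (Irr.isChar (triv_mem_Irr H))
  obtain ⟨k', hk', e⟩ := exists_int_sum (H := H) (Irr.zirr hψ)
  rw [ip_res_left le_rfl, hk'] at hk
  rw [Finset.sum_congr rfl fun g hg => hv g (by simpa using hg), hk] at e
  have : ∑ g ∈ fs (H : Set G), v g = Nat.card H * k := by exact_mod_cast e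
  rw [this]; positivity

variable {A : Subgroup G} {t : G} (D : Dat A) (h : Two A t) (h5 : 4 ≤ Nat.card A)
include h h5

theorem formula' {u : G} (uX : u ∉ X A) : (Nat.card G : ℤ) * (D.ch 1 * (D.ch 1 + D.δ)) ∣
    Nat.card A * (((centralizer ({u} : Set G)).index : ℤ) ^ 2 * (D.ch 1 - D.ch u) ^ 2) := by
  have := Fintype.ofFinite G
  obtain ⟨l, -, hl, -⟩ := exists_two_classes h.comm h5
  have hf : (fun g => (ff u g : ℂ)) ∈ CF (⊤ : Subgroup G) :=
    ⟨fun x hx => (hx trivial).elim, fun k _ g => by simp only [ff_conj]⟩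
  obtain ⟨E, e1⟩ : ∃ E, ip ⊤ (phi A l) (fun g => (ff u g : ℂ)) = E := ⟨_, rfl⟩
  have hE : IsIntegral ℤ (Nat.card A * E) := by
    rw [← e1, ip_phi l hf, ip, ← mul_assoc, mul_inv_cancel₀ (card_ne_zero_complex A), one_mul]
    refine IsIntegral.sum _ fun x _ => IsIntegral.mul ?_ ?_
    · exact (ZIrr.isIntegral (triv_mem_ZIrr A) x).sub ((lin_isChar l).isIntegral x)
    · rw [map_natCast]; exact isIntegral_natCast _
  have s1 := sum_ff_mul (t := u) (triv_mem_Irr (⊤ : Subgroup G))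
  have s2 := sum_ff_mul (t := u) D.χ_irr
  have s3 := sum_ff_mul (t := u) (D.θ_irr l hl)
  rw [D.θ_eq_ch h h5 hl uX, D.θ_eq_ch h h5 hl fun e => X_ne_one e rfl] at s3
  rw [D.χ_eq h h5 u, D.χ_eq h h5 1] at s2
  rw [triv_of_mem (mem_top u), triv_of_mem (mem_top 1)] at s1
  rw [D.eq l hl, ip, fs_top, inv_mul_eq_iff_eq_mul₀ (card_ne_zero_complex _), card_top] at e1
  simp only [Pi.add_apply, Pi.smul_apply, Pi.sub_apply, smul_eq_mul, map_natCast] at e1
  rw [Finset.sum_congr rfl (g := fun g => ff u g * triv ⊤ g + D.δ * (ff u g * D.χ g) -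
    D.δ * (ff u g * D.θ l g)) fun g _ => by ring, Finset.sum_sub_distrib, Finset.sum_add_distrib,
    ← Finset.mul_sum, ← Finset.mul_sum, s1, s2, s3] at e1
  have x0 : (D.ch 1 : ℂ) ≠ 0 := by exact_mod_cast (D.x_pos h h5).ne'
  have y0 : ((D.ch 1 + D.δ : ℤ) : ℂ) ≠ 0 := by exact_mod_cast (D.y_pos_dvd h h5).1.ne'
  have hδ : (D.δ : ℂ) * D.δ = 1 := by exact_mod_cast D.δ_sq
  have e2 : (((centralizer ({u} : Set G)).index : ℂ)) ^ 2 * (D.ch 1 - D.ch u) ^ 2 =
      Nat.card G * E * (D.ch 1 * (D.ch 1 + D.δ : ℤ)) := by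
    rw [← e1]; field_simp
    push_cast
    linear_combination (exp := 1) (((centralizer ({u} : Set G)).index : ℂ) ^ 2 *
      (-(D.ch u) ^ 2 + 2 * D.ch u * D.ch 1 + D.δ * D.ch 1)) * hδ
  have hpos : (0 : ℤ) < Nat.card G * (D.ch 1 * (D.ch 1 + D.δ)) :=
    mul_pos (by exact_mod_cast Nat.card_pos) (mul_pos (D.x_pos h h5) (D.y_pos_dvd h h5).1)
  obtain ⟨d, hd⟩ := Int.eq_ofNat_of_zero_le hpos.le
  rw [hd]
  refine CL.D1.dvd_of_isIntegral_div (by omega) ?_
  have hd' : (d : ℂ) = Nat.card G * (D.ch 1 * (D.ch 1 + D.δ : ℤ)) := by exact_mod_cast hd.symm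
  convert hE using 1
  have g0 : (Nat.card G : ℂ) ≠ 0 := by exact_mod_cast Nat.card_pos.ne'
  rw [hd', div_eq_iff (mul_ne_zero g0 (mul_ne_zero x0 y0))]
  push_cast at e2 ⊢
  linear_combination Nat.card A * e2

theorem abs_ch_le (u : G) : |D.ch u| ≤ D.ch 1 := by
  have h1 := (mem_Irr_top.mp D.χ_irr).isCharacter.norm_le_norm_one u
  rw [D.χ_eq h h5, D.χ_eq h h5, Complex.norm_intCast, Complex.norm_intCast] at h1
  have h2 : |D.ch u| ≤ |D.ch 1| := by exact_mod_cast h1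
  rwa [abs_of_pos (D.x_pos h h5)] at h2

theorem ch_pow {g : G} {k : ℕ} (hk : k.Coprime (orderOf g)) : D.ch (g ^ k) = D.ch g := by
  have := (mem_Irr_top.mp D.χ_irr).isCharacter.isGen.apply_pow_of_rat (g := g)
    ⟨D.ch g, by rw [D.χ_eq h h5]; simp⟩ hk
  rw [D.χ_eq h h5, D.χ_eq h h5] at this
  exact_mod_cast this

/-- restriction to a subgroup on whose non-identity elements the character is constant -/
theorem const_le {H : Subgroup G} (hH : ∀ g ∈ H, g ∉ X A) {b : ℤ}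
    (hb : ∀ g ∈ H, g ≠ 1 → D.ch g = b) :
    (Nat.card H : ℤ) ∣ D.ch 1 - b ∧ (Nat.card H - 1) * (D.ch 1 - b) ≤ Nat.card H * D.ch 1 ∧
      (Nat.card H - 1) * (D.ch 1 - b) ≤ Nat.card H * (D.ch 1 + D.δ) := by
  obtain ⟨l, -, hl, -⟩ := exists_two_classes h.comm h5
  have e : ∀ c : ℤ, ∑ g ∈ fs (H : Set G), (D.ch g + c) = D.ch 1 + c + (Nat.card H - 1) * (b + c) :=
    fun c => by
    rw [← Finset.add_sum_erase _ _ (show (1 : G) ∈ fs (H : Set G) by simp [H.one_mem]),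
      Finset.sum_congr rfl (g := fun _ => b + c) fun g hg => by
        rw [Finset.mem_erase] at hg; rw [hb g (by simpa using hg.2) hg.1], Finset.sum_const,
      Finset.card_erase_of_mem (by simp [H.one_mem]), card_fs_subgroup, nsmul_eq_mul,
      Nat.cast_sub Nat.card_pos]
    simp
  have h1 := D.dvd_sum h h5 H
  have h2 := sum_nonneg (H := H) D.χ_irr fun g _ => D.χ_eq h h5 g
  have h3 := sum_nonneg (H := H) (D.θ_irr l hl) fun g hg => D.θ_eq_ch h h5 hl (hH g hg)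
  have e0 := e 0
  simp only [add_zero] at e0
  rw [e0] at h1 h2
  rw [e] at h3
  refine ⟨?_, by linarith, by linarith⟩
  have := dvd_sub h1 (dvd_mul_right (Nat.card H : ℤ) b)
  rwa [show D.ch 1 + (Nat.card H - 1) * b - Nat.card H * b = D.ch 1 - b by ring] at this

theorem sums [Fintype G] : (Nat.card A : ℤ) * ∑ g ∈ fs (X A)ᶜ, D.ch g * (D.ch g + D.δ) = Nat.card G ∧
    (Nat.card A : ℤ) * ∑ g ∈ fs (X A)ᶜ, (D.ch g + D.δ) ^ 2 = 2 * Nat.card G := by
  have h1 := D.sum_ch h h5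
  have h2 := D.sum_ch_sq h h5
  have h3 := h.ssc.card_X
  rw [SSC.card_normalizer, h.idx] at h3
  have hδ := D.δ_sq
  have e : ∀ F : ℤ → ℤ, ∑ g ∈ fs (X A)ᶜ, F (D.ch g) = ∑ g, F (D.ch g) - (fs (X A)).card * F D.δ :=
    fun F => by
    rw [← Finset.sum_add_sum_compl (fs (X A)), Finset.sum_congr (s₁ := fs (X A)) rfl
      (g := fun _ => F D.δ) fun g hg => by rw [D.ch_X h h5 (by simpa using hg)], Finset.sum_const,
      nsmul_eq_mul, add_sub_cancel_left]
    congr 1; ext; simp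
  rw [e fun b => b * (b + D.δ), e fun b => (b + D.δ) ^ 2,
    Finset.sum_congr rfl (g := fun g => D.ch g ^ 2 + D.δ * D.ch g) fun g _ => by ring,
    Finset.sum_congr (s₁ := Finset.univ) rfl (f := fun g => (D.ch g + D.δ) ^ 2)
      (g := fun g => D.ch g ^ 2 + 2 * D.δ * D.ch g + 1) fun g _ => by linear_combination hδ]
  simp only [Finset.sum_add_distrib, ← Finset.mul_sum, h1, h2, Finset.sum_const, Finset.card_univ,
    nsmul_eq_mul, ← Nat.card_eq_fintype_card]
  push_cast at h3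
  exact ⟨by linear_combination -h3 - 2 * Nat.card A * (fs (X A)).card * hδ,
    by linear_combination -2 * h3 - 4 * Nat.card A * (fs (X A)).card * hδ⟩

theorem kappa [IsSimpleGroup G] : ∃ κ : ℕ,
    (Nat.card G : ℤ) = Nat.card A * (D.ch 1 * (D.ch 1 + D.δ) * κ ^ 2) ∧
    (Nat.card (centralizer ({t} : Set G)) : ℤ) = κ * (D.ch 1 - D.ch t) ∧
    ∀ u, u ∉ X A → u ≠ 1 → (Nat.card (centralizer ({u} : Set G)) : ℤ) ∣ κ * (D.ch 1 - D.ch u) := by
  have hδ := D.δ_sq
  obtain ⟨k, hk⟩ := D.n_dvd h h5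
  obtain ⟨o, ho⟩ := h.inv.odd
  have ho' : (Nat.card A : ℤ) = 2 * o + 1 := by exact_mod_cast ho
  have c1 : IsCoprime (D.ch 1) (D.ch 1 + D.δ) := ⟨-D.δ, D.δ, by linear_combination hδ⟩
  have c2 : IsCoprime (Nat.card A : ℤ) (D.ch 1) :=
    ⟨-D.δ * k, D.δ, by linear_combination D.δ * hk + hδ⟩
  have c3 : IsCoprime (Nat.card A : ℤ) (D.ch 1 + D.δ) :=
    ⟨1 + o * D.δ * k, -o * D.δ, by linear_combination -o * D.δ * hk - 2 * o * hδ + ho'⟩
  obtain ⟨M, hM⟩ := (c2.mul_right c3).mul_dvd (Int.natCast_dvd_natCast.2 A.card_subgroup_dvd_card)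
    (c1.mul_dvd (D.x_dvd h h5) (D.y_pos_dvd h h5).2)
  have N0 : D.ch 1 * (D.ch 1 + D.δ) ≠ 0 := (mul_pos (D.x_pos h h5) (D.y_pos_dvd h h5).1).ne'
  have p0 : (Nat.card A : ℤ) ≠ 0 := by omega
  have f0 : 0 < D.ch 1 - D.ch t := sub_pos.2 (D.ch_lt h h5 h.inv.ne)
  have e := D.order_formula h h5
  rw [hM, mul_assoc, mul_right_inj' (mul_ne_zero p0 N0)] at e
  obtain ⟨κ, hκ⟩ := (Int.pow_dvd_pow_iff two_ne_zero).1 (Dvd.intro_left _ e)
  have κ0 : 0 ≤ κ := by
    have : (0 : ℤ) ≤ (D.ch 1 - D.ch t) * κ := hκ ▸ Int.natCast_nonneg _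
    exact nonneg_of_mul_nonneg_right this f0 |> fun e => e
  obtain ⟨κ, rfl⟩ := Int.eq_ofNat_of_zero_le κ0
  rw [hκ, mul_pow, mul_comm M, mul_right_inj' (pow_ne_zero 2 f0.ne')] at e
  rw [e] at hM
  refine ⟨κ, by rw [hM]; ring, by rw [hκ]; ring, fun u uX u1 => ?_⟩
  obtain ⟨E, hE⟩ := formula' D h h5 uX
  have hc : (Nat.card (centralizer ({u} : Set G)) : ℤ) * (centralizer ({u} : Set G)).index =
    Nat.card G := by exact_mod_cast (centralizer ({u} : Set G)).card_mul_index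
  have g0 : (Nat.card G : ℤ) ≠ 0 := by exact_mod_cast Nat.card_pos.ne'
  have h1 : (Nat.card A * (κ * (D.ch 1 - D.ch u))) ^ 2 =
      (Nat.card (centralizer ({u} : Set G)) : ℤ) ^ 2 * E := by
    refine mul_left_cancel₀ (mul_ne_zero g0 N0) ?_
    linear_combination (Nat.card (centralizer ({u} : Set G)) : ℤ) ^ 2 * hE -
      Nat.card A * (D.ch 1 - D.ch u) ^ 2 * Nat.card G * hM - Nat.card A * (D.ch 1 - D.ch u) ^ 2 *
      (Nat.card G + (Nat.card (centralizer ({u} : Set G)) : ℤ) *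
        (centralizer ({u} : Set G)).index) * hc
  exact (Nat.isCoprime_iff_coprime.2 (h.ssc.coprime_cent u1 uX)).dvd_of_dvd_mul_left
    ((Int.pow_dvd_pow_iff two_ne_zero).1 ⟨E, h1⟩)

end CL.Ix2
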