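import Cfsg.Agent.INV.Ix2.Storm

/-! The numerical sieve for simple groups of index two. -/

set_option autoImplicit false

namespace CL.Ix2

def allB (f : ℕ → Bool) : ℕ → Bool
  | 0 => true
  | n + 1 => f n && allB f n

theorem allB_iff {f : ℕ → Bool} : ∀ {n : ℕ}, allB f n = true ↔ ∀ i < n, f i = true
  | 0 => by simp [allB]
  | n + 1 => by rw [allB, Bool.and_eq_true, allB_iff, Nat.forall_lt_succ_right, and_comm]

def anyB (f : ℕ → Bool) : ℕ → Bool
  | 0 => false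
  | n + 1 => f n || anyB f n

theorem anyB_iff {f : ℕ → Bool} : ∀ {n : ℕ}, anyB f n = true ↔ ∃ i < n, f i = true
  | 0 => by simp [anyB]
  | n + 1 => by rw [anyB, Bool.or_eq_true, anyB_iff, Nat.exists_lt_succ_right, or_comm]

/-- evaluate `n` first -/
def frc (n : ℕ) (k : ℕ → Bool) : Bool :=
  match n with
  | 0 => k 0
  | n + 1 => k (n + 1)

@[simp] theorem frc_eq (n : ℕ) (k : ℕ → Bool) : frc n k = k n := by cases n <;> rfl

/-- `s` is a sum of values `u i`, `i < n` -/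
def Rep (u : ℕ → ℕ) : ℕ → ℕ → Prop
  | 0, s => s = 0
  | n + 1, s => ∃ k s', s = k * u n + s' ∧ Rep u n s'

def rep (u : ℕ → ℕ) : ℕ → ℕ → Bool
  | 0, s => s == 0
  | n + 1, s => frc (u n) fun v => anyB (fun k => frc (s - k * v) (rep u n)) (s / v + 1)

theorem rep_of {u : ℕ → ℕ} : ∀ {n s : ℕ}, Rep u n s → rep u n s = true
  | 0, _, h => by simpa [rep, Rep] using h
  | n + 1, s, ⟨k, s', e, h⟩ => by
    simp only [rep, frc_eq, anyB_iff]
    rcases Nat.eq_zero_or_pos (u n) with h0 | h0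
    · exact ⟨0, Nat.succ_pos _, by simpa [e, h0] using rep_of h⟩
    · exact ⟨k, Nat.lt_succ_of_le ((Nat.le_div_iff_mul_le h0).2 (by omega)), by
        simpa [e] using rep_of h⟩

theorem Rep.zero (u : ℕ → ℕ) : ∀ n, Rep u n 0
  | 0 => rfl
  | n + 1 => ⟨0, 0, by simp, Rep.zero u n⟩

theorem Rep.add {u : ℕ → ℕ} : ∀ {n a b : ℕ}, Rep u n a → Rep u n b → Rep u n (a + b)
  | 0, _, _, h, h' => by simp_all [Rep]
  | _ + 1, _, _, ⟨k, s, e, h⟩, ⟨k', s', e', h'⟩ => ⟨k + k', s + s', by rw [e, e']; ring, h.add h'⟩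

theorem Rep.single (u : ℕ → ℕ) {i : ℕ} : ∀ {n : ℕ}, i < n → Rep u n (u i)
  | n + 1, h => by
    rcases Nat.lt_succ_iff_lt_or_eq.1 h with h | rfl
    · exact ⟨0, _, by simp, Rep.single u h⟩
    · exact ⟨1, 0, by simp, Rep.zero u _⟩

/-- the sums of values `u i`, `i < n` -/
def repM (u : ℕ → ℕ) (n : ℕ) : AddSubmonoid ℕ where
  carrier := {s | Rep u n s}
  zero_mem' := Rep.zero u n
  add_mem' := Rep.add

def ss (p M κ f : ℕ) : ℕ := if f = 0 then 0 else p * M / (κ * f).gcd M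
def uu (x y f : ℕ) : ℕ := ((x : ℤ) - f).natAbs * ((y : ℤ) - f).natAbs
def vv (y f : ℕ) : ℕ := ((y : ℤ) - f).natAbs ^ 2

def lvl (r p M κ x y : ℕ) (K : ℕ → ℕ → Bool) (a b : ℕ) : Bool :=
  if M % r = 0 then frc ((x * y * κ).gcd (r ^ 60)) fun R => anyB (fun j => frc (R * j) fun f =>
    f != 0 && (r - 1) * f ≤ r * x && (r - 1) * f ≤ r * y && frc (a + ss p M κ f * uu x y f) fun a' =>
    frc (b + ss p M κ f * vv y f) fun b' => a' ≤ M && b' ≤ 2 * M && K a' b') (2 * x / R + 1)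
  else K a b

def surv (p M κ x y f : ℕ) (K : ℕ → ℕ → Bool) : Bool :=
  frc (x * y + ss p M κ f * uu x y f) fun a => frc (y ^ 2 + ss p M κ f * vv y f) fun b =>
    a ≤ M && b ≤ 2 * M && lvl 3 p M κ x y (lvl 5 p M κ x y (lvl 7 p M κ x y K)) a b

def bis (X : ℕ) : ℕ → ℕ → ℕ
  | 0, q => q
  | k + 1, q => if (q + 2 ^ k) * ((q + 2 ^ k) ^ 2 - 1) ≤ X then bis X k (q + 2 ^ k) else bis X k q

def okQ (X : ℕ) : Bool := frc (bis X 20 0) fun q => q * (q ^ 2 - 1) ≤ X &&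
  X < (q + 1) * ((q + 1) ^ 2 - 1) && (q * (q ^ 2 - 1) != X ||
    [4, 5, 7, 8, 9, 16, 25, 27, 81, 2401, 15, 21, 35, 63, 225].contains q)

def okL2 (g : ℕ) : Bool := okQ g && okQ (2 * g)

theorem of_okQ {X q : ℕ} (h : okQ X = true) (e : X = q * (q ^ 2 - 1)) (h1 : 1 < q) :
    q ∈ [4, 5, 7, 8, 9, 16, 25, 27, 81, 2401, 15, 21, 35, 63, 225] := by
  simp only [okQ, frc_eq, Bool.and_eq_true, decide_eq_true_eq, Bool.or_eq_true, bne_iff_ne,
    List.contains_iff_mem] at h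
  generalize bis X 20 0 = r at h
  have mono : ∀ a b : ℕ, a < b → 1 < b → a * (a ^ 2 - 1) < b * (b ^ 2 - 1) := fun a b hab hb =>
    Nat.mul_lt_mul_of_lt_of_le hab (Nat.sub_le_sub_right (Nat.pow_le_pow_left hab.le 2) 1)
      (Nat.sub_pos_of_lt (Nat.one_lt_pow two_ne_zero hb))
  obtain rfl : q = r := by
    rcases lt_trichotomy q r with h2 | h2 | h2
    · have := mono q r h2 (by omega); omega
    · exact h2
    · rcases Nat.lt_or_eq_of_le (Nat.succ_le_of_lt h2) with h3 | h3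
      · have := mono _ _ h3 h1; simp only [Nat.succ_eq_add_one] at this; omega
      · subst h3; simp only [Nat.succ_eq_add_one] at e; omega
  exact h.2.resolve_left fun h' => h' e.symm

def okL3 (g : ℕ) : Bool := g < 3 * 10 ^ 12 && g != 62400 && g != 2520 && g != 7920 && allB (fun q =>
  Nat.gcd 3 q * g != (q + 1) ^ 3 * (q ^ 2 * (q + 2) * (q * (q + 3) + 3)) &&
  Nat.gcd 3 (q + 2) * g != (q + 1) ^ 3 * ((q + 2) ^ 2 * q * (q * (q + 1) + 1))) 50

def exa (p κ x y f : ℕ) : Bool := κ == 1 && x == y + 1 && f == y && x % 4 == 1 &&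
  allB (fun m => x % m != 0 || m * (x + 1) < 2 * p * x || m == x) (x + 1)

def good (p M κ x y f : ℕ) : Bool := frc (p * M) fun g =>
  (2 ^ 60 % (κ * f) == 0 && g % 3 == 0 && okL2 g) ||
    ((g % 8 != 0 || f % 8 != 0 || 8 * x < 7 * f || 8 * y < 7 * f || exa p κ x y f) && okL2 g && okL3 g)

def chk1 (p κ x y : ℕ) : Bool := frc κ fun κ => frc (x * y * κ ^ 2) fun M =>
  (M / 2 + (p - 1)) % p != 0 || frc ((x * y * κ).gcd (2 ^ 60)) fun R => allB (fun j =>
    frc (R * j) fun f => f == 0 || f % 4 != 0 || M % (κ * f) != 0 ||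
    !surv p M κ x y f (fun _ _ => true) || good p M κ x y f ||
    !surv p M κ x y f fun a _ => rep (fun f => ss p M κ f * uu x y f) (2 * x + 1) (M - a))
      (2 * x / R + 1)

def big (r i x y : ℕ) : Bool := 2 * x < (x * y * r ^ i).gcd (r ^ 60)

def chk2 (x y : ℕ) : Bool := allB (fun p => p < 5 || (2 * x - y) % p != 0 ||
  anyB (fun d => 2 ≤ d && p % d == 0) p ||
  allB (fun i => big 2 i x y || allB (fun j => big 3 j x y || allB (fun k => big 5 k x y ||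
    allB (fun l => big 7 l x y || chk1 p (2 ^ i * 3 ^ j * 5 ^ k * 7 ^ l) x y) 14) 14) 14) 14) (x + 2)

theorem chk_all : ∀ n ∈ L23, chk2 n (n + 1) = true ∧ chk2 (n + 1) n = true := by decide +kernel

end CL.Ix2
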