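import Cfsg.Agent.INV.Ix2.Chr
import Cfsg.Agent.INV.Ix2.Num
import Cfsg.Agent.SOLV.Frobenius

/-! The numerical data of a group with a self-centralizing subgroup of index two in its normalizer. -/

set_option autoImplicit false
open Cfsg CL.PF CL.Char CL.Odd Subgroup CL.SCS
open scoped Classical

namespace CL.Ix2

variable {G : Type*} [Group G] [Finite G]

/-- `x`, `y` are the two degrees and `F g = χ(1) - χ(g)`. -/
structure Ctx (A : Subgroup G) (t : G) (p x y κ : ℕ) (F : G → ℕ) : Prop where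
  two : Two A t
  cardA : Nat.card A = p
  card : Nat.card G = p * (x * y * κ ^ 2)
  cent : Nat.card (centralizer ({t} : Set G)) = κ * F t
  dvd : ∀ u, u ∉ X A → u ≠ 1 → Nat.card (centralizer ({u} : Set G)) ∣ κ * F u
  pos : ∀ u, u ≠ 1 → F u ≠ 0
  le : ∀ u, F u ≤ 2 * x
  one : F 1 = 0
  conj : ∀ g k, IsConj g k → F k = F g
  pow : ∀ g k, k.Coprime (orderOf g) → F (g ^ k) = F g
  const : ∀ H : Subgroup G, (∀ g ∈ H, g ∉ X A) → ∀ f, (∀ g ∈ H, g ≠ 1 → F g = f) →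
    Nat.card H ∣ f ∧ (Nat.card H - 1) * f ≤ Nat.card H * x ∧ (Nat.card H - 1) * f ≤ Nat.card H * y
  su : ∑ g ∈ fs (X A)ᶜ, uu x y (F g) = x * y * κ ^ 2
  sv : ∑ g ∈ fs (X A)ᶜ, vv y (F g) = 2 * (x * y * κ ^ 2)
  isConj : ∀ u, u * u = 1 → u ≠ 1 → IsConj u t
  four : 4 ∣ F t
  xy : y = x + 1 ∨ x = y + 1
  y0 : 0 < y
  pdvd : p ∣ 2 * x - y
  FX : ∀ g ∈ X A, F g = 2 * x - y
  sff : (x : ℤ) * ∑ g ∈ fs Set.univ, (ff t g : ℤ) * F g =
    (centralizer ({t} : Set G)).index ^ 2 * (x ^ 2 - (x - F t) ^ 2)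

theorem exists_ctx [IsSimpleGroup G] (hG : ¬ IsMulCommutative G) {A : Subgroup G} {t : G}
    (h : Two A t) (h5 : 4 ≤ Nat.card A) : ∃ x y κ F, Ctx A t (Nat.card A) x y κ F := by
  have := Fintype.ofFinite G
  obtain ⟨D⟩ := h.exists_dat h5
  obtain ⟨κ, k1, k2, k3⟩ := kappa D h h5
  obtain ⟨x, hx⟩ := Int.eq_ofNat_of_zero_le (D.x_pos h h5).le
  obtain ⟨y, hy⟩ := Int.eq_ofNat_of_zero_le (D.y_pos_dvd h h5).1.le
  have hF : ∀ g, ((D.ch 1 - D.ch g).natAbs : ℤ) = D.ch 1 - D.ch g := fun g =>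
    Int.natAbs_of_nonneg (sub_nonneg.2 (le_of_abs_le (abs_ch_le D h h5 g)))
  have p0 : (Nat.card A : ℤ) ≠ 0 := by omega
  obtain ⟨s1, s2⟩ := sums D h h5
  have hδ := D.hδ
  have y0 := (D.y_pos_dvd h h5).1
  have x0 := D.x_pos h h5
  rw [hy] at k1
  refine ⟨x, y, κ, fun g => (D.ch 1 - D.ch g).natAbs, h, rfl, by rw [hx] at k1; exact_mod_cast k1,
    by zify; rw [k2, ← Int.natCast_natAbs, hF], fun u h1 h2 => ?_, fun u hu => ?_, fun u => ?_, by simp,
    fun g k e => by rw [D.ch_of_isConj h h5 e], fun g k e => by rw [ch_pow D h h5 e],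
    fun H hH f hf => ?_, ?_, ?_, fun _ => D.isConj h h5, ?_, by omega, by omega, ?_,
    fun g hg => ?_, ?_⟩
  · rw [← Int.natCast_dvd_natCast, Nat.cast_mul, hF]; exact k3 u h1 h2
  · have := D.ch_lt h h5 hu; omega
  · have := neg_le_of_abs_le (abs_ch_le D h h5 u); have := hF u; omega
  · obtain ⟨c1, c2, c3⟩ := const_le D h h5 hH (b := D.ch 1 - f) fun g hg g1 => by
      have := hf g hg g1; have := hF g; omega
    rw [sub_sub_cancel] at c1 c2 c3
    rw [hy] at c3; rw [hx] at c2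
    have c0 : 1 ≤ Nat.card H := Nat.card_pos
    exact ⟨by exact_mod_cast c1, by zify [c0]; exact c2, by zify [c0]; exact c3⟩
  · zify
    refine mul_left_cancel₀ p0 ?_
    rw [← hx, ← k1, ← s1]
    refine congrArg _ (Finset.sum_congr rfl fun g _ => ?_)
    simp only [uu, Nat.cast_mul, Int.natCast_natAbs, ← abs_mul, ← hx, ← hy, abs_of_nonneg
      (sub_nonneg.2 (le_of_abs_le (abs_ch_le D h h5 g)))]
    rw [abs_of_nonneg (by
      rcases le_or_gt (D.ch g) (-1) with h1 | h1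
      · rcases hδ with e | e <;> rw [e] <;> nlinarith
      rcases le_or_gt (D.ch g) 0 with h2 | h2
      · rw [show D.ch g = 0 by omega]; simp
      · rcases hδ with e | e <;> rw [e] <;> nlinarith)]
    ring
  · zify
    refine mul_left_cancel₀ p0 ?_
    rw [← hx, mul_left_comm, ← k1, ← s2]
    refine congrArg _ (Finset.sum_congr rfl fun g _ => ?_)
    simp only [vv, Nat.cast_pow, Int.natCast_natAbs, sq_abs, ← hy, abs_of_nonneg
      (sub_nonneg.2 (le_of_abs_le (abs_ch_le D h h5 g)))]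
    ring
  · rw [← Int.natCast_dvd_natCast, hF]; exact D.four_dvd h h5 hG
  · rw [← Int.natCast_dvd_natCast, show ((2 * x - y : ℕ) : ℤ) = D.ch 1 - D.δ by
      rcases hδ with e | e <;> omega]
    exact D.n_dvd h h5
  · have := D.ch_X h h5 hg; rcases hδ with e | e <;> omega
  · have e1 := sum_ff_mul (t := t) D.χ_irr
    simp only [D.χ_eq h h5] at e1
    rw [eq_div_iff (by exact_mod_cast (D.x_pos h h5).ne')] at e1
    have e2 : (∑ g, ff t g * D.ch g) * D.ch 1 = ((centralizer ({t} : Set G)).index * D.ch t) ^ 2 := by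
      exact_mod_cast e1
    have e3 : ∑ g, (ff t g : ℤ) = (centralizer ({t} : Set G)).index ^ 2 := by exact_mod_cast sum_ff t
    simp only [hF, ← hx, mul_sub, Finset.sum_sub_distrib, ← Finset.sum_mul,
      show fs (Set.univ : Set G) = Finset.univ by ext; simp, e3]
    linear_combination -e2

namespace Ctx
variable {A : Subgroup G} {t : G} {p x y κ : ℕ} {F : G → ℕ} (C : Ctx A t p x y κ F)
include C

theorem tX : t ∉ X A := not_mem_X_of_sq C.two.inv.odd C.two.inv.sq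

theorem card_X {g : G} (hg : g ∈ X A) : Nat.card (centralizer ({g} : Set G)) = p := by
  obtain ⟨a, ha, a1, e⟩ := hg
  rw [card_cent_conj e, C.two.ssc a ha a1, C.cardA]

theorem x0 : 0 < x := by
  have := C.pos t C.two.inv.ne; have := C.le t; omega

theorem κ0 : κ ≠ 0 := by
  rintro rfl
  have := C.cent
  exact Nat.card_pos.ne' (by simpa using this)

theorem cop {u : G} (h1 : u ∉ X A) (h2 : u ≠ 1) :
    (Nat.card (centralizer ({u} : Set G))).Coprime p := C.cardA ▸ C.two.ssc.coprime_cent h2 h1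

theorem ex_w (hp : p.Prime) {r : ℕ} (hr : r.Prime) (h : r ∣ x * y * κ ^ 2) :
    ∃ w : G, orderOf w = r ∧ w ∉ X A ∧ ∀ a, r ^ a ∣ x * y * κ → r ^ a ∣ F w := by
  obtain ⟨w, h1, h2⟩ := exists_cent (G := G) hr (C.card ▸ h.mul_left p)
  have w1 : w ≠ 1 := by rintro rfl; exact hr.one_lt.ne (by rw [← h1, orderOf_one])
  have wX : w ∉ X A := fun hw => by
    have h3 := orderOf_dvd_of_mem_X hw
    rw [h1, C.cardA, Nat.prime_dvd_prime_iff_eq hr hp] at h3
    subst h3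
    have := h2 2 (by rw [C.card, pow_two]; exact Nat.mul_dvd_mul_left _ h)
    rw [C.card_X hw] at this
    have := Nat.le_of_dvd hr.pos this
    nlinarith [hr.two_le]
  refine ⟨w, h1, wX, fun a ha => ?_⟩
  obtain ⟨i, k, hk, e⟩ := Nat.exists_eq_pow_mul_and_not_dvd C.κ0 r hr.one_lt.ne'
  have h3 := (h2 (i + a) (by
    rw [C.card, pow_add, pow_two, ← mul_assoc (x * y), mul_comm (r ^ i)]
    exact (mul_dvd_mul ha (Dvd.intro _ e.symm)).mul_left p)).trans (C.dvd w wX w1)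
  rw [e, pow_add, mul_assoc, Nat.mul_dvd_mul_iff_left (pow_pos hr.pos i)] at h3
  exact (Nat.Coprime.pow_left a ((Nat.Prime.coprime_iff_not_dvd hr).2 hk)).dvd_of_dvd_mul_left h3

theorem pow_le (hp : p.Prime) {r a : ℕ} (hr : r.Prime) (h : r ^ a ∣ x * y * κ) : r ^ a ≤ 2 * x := by
  rcases Nat.eq_zero_or_pos a with rfl | ha
  · have := C.x0; rw [pow_zero]; omega
  obtain ⟨w, h1, -, h2⟩ := C.ex_w hp hr (((dvd_pow_self r ha.ne').trans h).trans ⟨κ, by ring⟩)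
  have w1 : w ≠ 1 := by rintro rfl; exact hr.one_lt.ne (by rw [← h1, orderOf_one])
  exact (Nat.le_of_dvd (Nat.pos_of_ne_zero (C.pos w w1)) (h2 a h)).trans (C.le w)

omit C in
/-- admissible lists of class representatives -/
def Adm (A : Subgroup G) (r : ℕ) (W : List G) : Prop :=
  (∀ w ∈ W, orderOf w ≤ r ∧ w ∉ X A ∧ w ≠ 1) ∧ W.Pairwise fun a b => ¬ IsConj a b

theorem bud {r : ℕ} {W : List G} (hW : Adm A r W) {M : ℕ} (hM : x * y * κ ^ 2 = M) :
    x * y + (W.map fun w => ss p M κ (F w) * uu x y (F w)).sum ≤ M ∧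
    y ^ 2 + (W.map fun w => ss p M κ (F w) * vv y (F w)).sum ≤ 2 * M ∧
    Rep (fun f => ss p M κ f * uu x y f) (2 * x + 1)
      (M - (x * y + (W.map fun w => ss p M κ (F w) * uu x y (F w)).sum)) := by
  have hS : ∀ g, g ∈ (fs (X A)ᶜ).erase 1 ↔ g ≠ 1 ∧ g ∉ X A := by simp
  have h1 : ∀ g ∈ (fs (X A)ᶜ).erase 1, ∀ k, IsConj g k → k ∈ (fs (X A)ᶜ).erase 1 := fun g hg k e => by
    rw [hS] at hg ⊢
    exact ⟨fun k1 => hg.1 (isConj_one_left.1 (k1 ▸ e)), fun hk => hg.2 (X_of_isConj hk e.symm)⟩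
  have h2 : ∀ g ∈ (fs (X A)ᶜ).erase 1, ss p M κ (F g) ∣ (centralizer ({g} : Set G)).index := fun g hg => by
    rw [hS] at hg
    have h3 := (centralizer ({g} : Set G)).card_mul_index
    rw [C.card, hM] at h3
    rw [ss, if_neg (C.pos g hg.1), ← Nat.div_eq_of_eq_mul_right Nat.card_pos h3.symm]
    exact Nat.div_dvd_div_left ((Nat.gcd_dvd_right _ _).mul_left p) (Nat.dvd_gcd (C.dvd g hg.2 hg.1)
      ((C.cop hg.2 hg.1).dvd_of_dvd_mul_left (Dvd.intro _ h3)))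
  have h4 : ∀ w ∈ W, w ∈ (fs (X A)ᶜ).erase 1 := fun w hw => (hS w).2 ⟨(hW.1 w hw).2.2, (hW.1 w hw).2.1⟩
  have h0 : (1 : G) ∈ fs (X A)ᶜ := mem_fs.2 fun e => X_ne_one e rfl
  obtain ⟨B, hB, e⟩ := class_sum (repM (fun f => ss p M κ f * uu x y f) (2 * x + 1))
    (F := fun g => uu x y (F g)) (s := fun g => ss p M κ (F g)) (fun g k e => by rw [C.conj g k e]) _ _
    le_rfl h1 (fun g hg => ⟨h2 g hg, Rep.single (fun f => ss p M κ f * uu x y f)
      (Nat.lt_succ_of_le (C.le g))⟩) W h4 hW.2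
  obtain ⟨B', -, e'⟩ := class_sum ⊤ (F := fun g => vv y (F g)) (s := fun g => ss p M κ (F g))
    (fun g k e => by rw [C.conj g k e]) _ _ le_rfl h1 (fun g hg => ⟨h2 g hg, trivial⟩) W h4 hW.2
  have s1 := C.su
  have s2 := C.sv
  rw [← Finset.add_sum_erase _ _ h0, hM, C.one] at s1 s2
  rw [e] at s1; rw [e'] at s2
  rw [show uu x y 0 = x * y by simp [uu]] at s1
  rw [show vv y 0 = y ^ 2 by simp [vv]] at s2
  refine ⟨by omega, by omega, ?_⟩
  rwa [Nat.sub_eq_of_eq_add' ((add_assoc _ _ B).trans s1).symm]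

theorem lvl_of (hp : p.Prime) {r r' : ℕ} (hr : r.Prime) (hr' : r' < r) {W : List G} (hW : Adm A r' W)
    {M : ℕ} (hM : x * y * κ ^ 2 = M) {K : ℕ → ℕ → Bool} (hK : ∀ W' : List G, Adm A r W' →
      K (x * y + (W'.map fun w => ss p M κ (F w) * uu x y (F w)).sum)
        (y ^ 2 + (W'.map fun w => ss p M κ (F w) * vv y (F w)).sum) = true) :
    lvl r p M κ x y K (x * y + (W.map fun w => ss p M κ (F w) * uu x y (F w)).sum)
      (y ^ 2 + (W.map fun w => ss p M κ (F w) * vv y (F w)).sum) = true := by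
  rw [lvl]
  split_ifs with h0
  swap
  · exact hK W ⟨fun w hw => ⟨(hW.1 w hw).1.trans hr'.le, (hW.1 w hw).2⟩, hW.2⟩
  obtain ⟨w, h1, h2, h3⟩ := C.ex_w hp hr (hM ▸ Nat.dvd_of_mod_eq_zero h0)
  have w1 : w ≠ 1 := by rintro rfl; exact hr.one_lt.ne (by rw [← h1, orderOf_one])
  obtain ⟨a, -, ha⟩ := (Nat.dvd_prime_pow hr).1 (Nat.gcd_dvd_right (x * y * κ) (r ^ 60))
  obtain ⟨j, hj⟩ := h3 a (ha ▸ Nat.gcd_dvd_left _ _)
  have hW' : Adm A r (w :: W) := by
    refine ⟨fun v hv => ?_, List.pairwise_cons.2 ⟨fun v hv e => ?_, hW.2⟩⟩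
    · rcases List.mem_cons.1 hv with rfl | hv
      · exact ⟨h1.le, h2, w1⟩
      · exact ⟨(hW.1 v hv).1.trans hr'.le, (hW.1 v hv).2⟩
    · obtain ⟨k, rfl⟩ := isConj_iff.1 e
      have := (hW.1 _ hv).1
      rw [show k * w * k⁻¹ = MulAut.conj k w from rfl, MulEquiv.orderOf_eq] at this
      omega
  obtain ⟨b1, b2, -⟩ := C.bud hW' hM
  have b3 := hK _ hW'
  obtain ⟨-, c1, c2⟩ := C.const (zpowers w) (fun g hg hX => h2 (C.two.ssc.mem_X_of_comm hX w1 (by
      obtain ⟨k, rfl⟩ := hg; exact (Commute.refl w).zpow_right k))) (F w) fun g hg g1 => by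
    obtain ⟨k, rfl⟩ := (mem_powers_iff_mem_zpowers.2 hg)
    refine C.pow w k (h1 ▸ ((Nat.Prime.coprime_iff_not_dvd hr).2 fun e => g1 ?_).symm)
    exact orderOf_dvd_iff_pow_eq_one.1 (h1 ▸ e)
  rw [Nat.card_zpowers, h1] at c1 c2
  simp only [List.map_cons, List.sum_cons, add_comm (ss p M κ (F w) * _), ← add_assoc] at b1 b2 b3
  simp only [frc_eq, anyB_iff, ha, Bool.and_eq_true, bne_iff_ne, decide_eq_true_eq]
  refine ⟨j, Nat.lt_succ_of_le ((Nat.le_div_iff_mul_le (pow_pos hr.pos a)).2 ?_), ?_⟩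
  · rw [mul_comm, ← hj]; exact C.le w
  · rw [← hj]; exact ⟨⟨⟨C.pos w w1, c1⟩, c2⟩, ⟨b1, b2⟩, b3⟩

theorem surv_of (hp : p.Prime) {M : ℕ} (hM : x * y * κ ^ 2 = M) {K : ℕ → ℕ → Bool}
    (hK : ∀ a b, Rep (fun f => ss p M κ f * uu x y f) (2 * x + 1) (M - a) → K a b = true) :
    surv p M κ x y (F t) K = true := by
  have h0 : Adm A 2 [t] := ⟨by
    simpa using ⟨orderOf_le_of_pow_eq_one two_pos (by rw [pow_two, C.two.inv.sq]), C.tX, C.two.inv.ne⟩,
    by simp⟩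
  obtain ⟨b1, b2, -⟩ := C.bud h0 hM
  have b3 := C.lvl_of hp Nat.prime_three (by norm_num) h0 hM
    (K := lvl 5 p M κ x y (lvl 7 p M κ x y K)) fun W hW =>
    C.lvl_of hp Nat.prime_five (by norm_num) hW hM fun W hW =>
    C.lvl_of hp (by norm_num) (by norm_num) hW hM fun W hW => hK _ _ (C.bud hW hM).2.2
  simp only [List.map_cons, List.map_nil, List.sum_cons, List.sum_nil, add_zero] at b1 b2 b3
  simp [surv, b1, b2, b3]

theorem good_of (hp : p.Prime) (h5 : 5 ≤ p) {m : ℕ} (hm : x * y * κ ^ 2 ∣ 210 ^ m) :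
    good p (x * y * κ ^ 2) κ x y (F t) = true := by
  have x0 := C.x0
  have h1 : x * y ∣ 210 ^ m := (dvd_mul_right _ _).trans hm
  have h2 : chk2 x y = true ∧ x ≤ 4375 := by
    have hb : ∀ n ∈ L23, n ≤ 4374 := by decide
    rcases C.xy with rfl | rfl
    · have := stormer x0 h1
      exact ⟨(chk_all _ this).1, (hb _ this).trans (by norm_num)⟩
    · have := stormer C.y0 (mul_comm y _ ▸ h1)
      exact ⟨(chk_all _ this).2, Nat.succ_le_succ (hb _ this)⟩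
  have h3 : κ ∣ 2 ^ m * 3 ^ m * 5 ^ m * 7 ^ m := by
    simp only [← mul_pow]
    exact ((dvd_pow_self κ two_ne_zero).mul_left _).trans hm
  obtain ⟨n1, n2, g1, h7, e⟩ := Nat.dvd_mul.1 h3
  obtain ⟨n3, n4, g2, h6, rfl⟩ := Nat.dvd_mul.1 g1
  obtain ⟨n5, n6, h3, h4, rfl⟩ := Nat.dvd_mul.1 g2
  obtain ⟨i, -, rfl⟩ := (Nat.dvd_prime_pow Nat.prime_two).1 h3
  obtain ⟨j, -, rfl⟩ := (Nat.dvd_prime_pow Nat.prime_three).1 h4
  obtain ⟨k, -, rfl⟩ := (Nat.dvd_prime_pow Nat.prime_five).1 h6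
  obtain ⟨l, -, rfl⟩ := (Nat.dvd_prime_pow (by norm_num : Nat.Prime 7)).1 h7
  have key : ∀ r i, r.Prime → r ^ i ∣ κ → i < 14 ∧ big r i x y = false := fun r i hr hi => by
    refine ⟨?_, ?_⟩
    · by_contra hn
      have := C.pow_le hp hr (hi.mul_left (x * y))
      have h8 : 2 ^ 14 ≤ r ^ i := (Nat.pow_le_pow_left hr.two_le 14).trans
        (Nat.pow_le_pow_right hr.pos (by omega))
      omega
    · obtain ⟨a, -, ha⟩ := (Nat.dvd_prime_pow hr).1 (Nat.gcd_dvd_right (x * y * r ^ i) (r ^ 60))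
      have := C.pow_le hp hr ((ha ▸ Nat.gcd_dvd_left _ _).trans (Nat.mul_dvd_mul_left (x * y) hi))
      simpa [big, ha] using this
  obtain ⟨i1, i2⟩ := key 2 i Nat.prime_two ⟨3 ^ j * 5 ^ k * 7 ^ l, by rw [← e]; ring⟩
  obtain ⟨j1, j2⟩ := key 3 j Nat.prime_three ⟨2 ^ i * 5 ^ k * 7 ^ l, by rw [← e]; ring⟩
  obtain ⟨k1, k2⟩ := key 5 k Nat.prime_five ⟨2 ^ i * 3 ^ j * 7 ^ l, by rw [← e]; ring⟩
  obtain ⟨l1, l2⟩ := key 7 l (by norm_num) ⟨2 ^ i * 3 ^ j * 5 ^ k, by rw [← e]; ring⟩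
  have hxy := C.xy
  have h8 := C.four
  have h9 := C.pos t C.two.inv.ne
  have h10 := C.le t
  have h11 := Nat.le_of_dvd (by omega) C.pdvd
  have h12 := allB_iff.1 h2.1 p (by omega)
  have h13 : anyB (fun d => decide (2 ≤ d) && p % d == 0) p = false := by
    by_contra hn
    simp only [Bool.not_eq_false, anyB_iff, Bool.and_eq_true, decide_eq_true_eq, beq_iff_eq] at hn
    obtain ⟨d, d1, d2, d3⟩ := hn
    rcases (Nat.dvd_prime hp).1 (Nat.dvd_of_mod_eq_zero d3) with _ | _ <;> omega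
  simp only [h13, Nat.mod_eq_zero_of_dvd C.pdvd, Bool.or_eq_true, decide_eq_true_eq, allB_iff,
    show ¬ p < 5 by omega, bne_self_eq_false, Bool.false_eq_true, false_or] at h12
  have h14 := ((((((((h12 i i1).resolve_left (by simp [i2])) j j1).resolve_left (by simp [j2])) k
    k1).resolve_left (by simp [k2])) l l1).resolve_left (by simp [l2]))
  rw [e] at h14
  obtain ⟨w, w1, -, w2⟩ := C.ex_w hp Nat.prime_two (by
    rcases hxy with rfl | rfl
    · exact (Nat.even_mul_succ_self x).two_dvd.mul_right _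
    · exact (mul_comm y _ ▸ (Nat.even_mul_succ_self y).two_dvd).mul_right _)
  rw [← C.conj w t (C.isConj w (by rw [← pow_two, ← w1, pow_orderOf_eq_one]) (by
    rintro rfl; simp at w1))] at w2
  obtain ⟨a, -, ha⟩ := (Nat.dvd_prime_pow Nat.prime_two).1 (Nat.gcd_dvd_right (x * y * κ) (2 ^ 60))
  obtain ⟨s, hs⟩ := w2 a (ha ▸ Nat.gcd_dvd_left _ _)
  obtain ⟨ν, hν⟩ := C.two.ssc.index_modEq
  have h15 := (normalizer (A : Set G)).card_mul_index
  rw [SSC.card_normalizer, C.two.idx, C.card, C.cardA, mul_comm 2, mul_assoc,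
    Nat.mul_right_inj hp.pos.ne'] at h15
  have h16 : κ * F t ∣ x * y * κ ^ 2 := by
    rw [← C.cent]
    exact (C.cop C.tX C.two.inv.ne).dvd_of_dvd_mul_left (C.card ▸ card_subgroup_dvd_card _)
  simp only [chk1, frc_eq, ha, Bool.or_eq_true, allB_iff, bne_iff_ne] at h14
  have h17 := (h14.resolve_left (by
    rw [← h15, Nat.mul_div_cancel_left _ two_pos, ← C.cardA, hν]; simp)) s
    (Nat.lt_succ_of_le ((Nat.le_div_iff_mul_le (by positivity)).2 (by rw [mul_comm, ← hs]; exact h10)))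
  rw [← hs, C.surv_of hp rfl fun _ _ _ => rfl, C.surv_of hp rfl fun _ _ h => rep_of h] at h17
  simpa [h9, Nat.mod_eq_zero_of_dvd h8, Nat.mod_eq_zero_of_dvd h16] using h17

end Ctx

end CL.Ix2
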