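import Cfsg.Agent.INV.Ix2.Rank
import Cfsg.Agent.INV.SmallBasic
import Cfsg.Agent.INV.U3Ch.Arith
import Cfsg.Agent.S0252
import Cfsg.Agent.S0253
import Cfsg.Agent.S0348
import Cfsg.Agent.S0482
import Cfsg.Agent.S3331

/-! Simple groups of order `2^a 3^b 5^c 7^d p` with a Sylow `p`-normalizer of order `2p`. -/

set_option autoImplicit false
open Cfsg CL.PF CL.Char CL.Odd Subgroup CL.SCS Matrix
open scoped Classical

namespace CL.Ix2

variable {G : Type*} [Group G] [Finite G]

/-- the list of the groups -/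
def Res (G : Type*) [Group G] : Prop :=
  (∃ (F : Type) (_ : Field F) (_ : Fintype F), Fintype.card F ∈ [5, 7, 9, 8, 16, 25, 27, 81, 2401] ∧
    Nonempty (G ≃* ProjectiveSpecialLinearGroup (Fin 2) F)) ∨
  ∃ (F : Type) (_ : Field F) (_ : Fintype F), Fintype.card F = 4 ∧
    Nonempty (G ≃* ProjectiveSpecialLinearGroup (Fin 3) F)

omit [Finite G] in
theorem res_alt (e : G ≃* alternatingGroup (Fin 5)) : Res G :=
  haveI : Fact (Nat.Prime 5) := ⟨Nat.prime_five⟩
  .inl ⟨ZMod 5, inferInstance, inferInstance, by simp,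
    (Cfsg.Agent.S0253.result (F := ZMod 5) (by simp)).map fun f => e.trans f.symm⟩

theorem of_okL2 {g q : ℕ} (h : okL2 g = true) (e : Nat.gcd 2 (q - 1) * g = q * (q ^ 2 - 1))
    (h1 : 1 < q) (h3 : IsPrimePow q) (h4 : q ≠ 4) : q ∈ [5, 7, 9, 8, 16, 25, 27, 81, 2401] := by
  rw [okL2, Bool.and_eq_true] at h
  have h2 : q ∈ [4, 5, 7, 8, 9, 16, 25, 27, 81, 2401, 15, 21, 35, 63, 225] := by
    rcases (Nat.dvd_prime Nat.prime_two).1 (Nat.gcd_dvd_left 2 (q - 1)) with h3 | h3 <;> rw [h3] at e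
    · exact of_okQ h.1 (by rw [← e, one_mul]) h1
    · exact of_okQ h.2 e h1
  clear h e
  simp only [List.mem_cons, List.not_mem_nil, or_false] at h2 ⊢
  have h5 : ∀ a b : ℕ, a.Coprime b → 1 < a → 1 < b → q ≠ a * b := fun a b h ha hb e => by
    rcases (Nat.Coprime.isPrimePow_dvd_mul h h3).1 e.dvd with h | h
    · exact absurd (Nat.le_of_dvd (by omega) h) (by nlinarith)
    · exact absurd (Nat.le_of_dvd (by omega) h) (by nlinarith)
  have := h5 3 5 (by norm_num) (by norm_num) (by norm_num)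
  have := h5 3 7 (by norm_num) (by norm_num) (by norm_num)
  have := h5 5 7 (by norm_num) (by norm_num) (by norm_num)
  have := h5 9 7 (by norm_num) (by norm_num) (by norm_num)
  have := h5 9 25 (by norm_num) (by norm_num) (by norm_num)
  omega

omit [Finite G] in
theorem res_psl {F : Type} [Field F] [Fintype F] (e : G ≃* ProjectiveSpecialLinearGroup (Fin 2) F)
    (h : okL2 (Nat.card G) = true) : Res G := by
  have h1 := CL.SL.gcd_mul_card_PSL_two (F := F)
  rw [← Nat.card_congr e.toEquiv, Nat.card_eq_fintype_card (α := F)] at h1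
  by_cases h4 : Fintype.card F = 4
  · exact (Cfsg.Agent.S0252.result h4).elim fun f => res_alt (e.trans f)
  exact .inl ⟨F, inferInstance, inferInstance, of_okL2 h h1 Fintype.one_lt_card (FiniteField.isPrimePow_card F) h4, ⟨e⟩⟩

theorem res_rank [IsSimpleGroup G] (hG : ¬ IsMulCommutative G) (h : PRankLE 2 2 G)
    (h2 : okL2 (Nat.card G) = true) (h3 : okL3 (Nat.card G) = true) : Res G := by
  simp only [okL3, Bool.and_eq_true, decide_eq_true_eq, bne_iff_ne, allB_iff] at h3
  obtain ⟨⟨⟨⟨g1, g2⟩, g3⟩, g4⟩, g5⟩ := h3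
  have key : ∀ x m n : ℕ, Nat.gcd 3 m * Nat.card G = n → (x + 1) ^ 3 * (x ^ 2 * x * x ^ 2) ≤ n →
      x < 50 := fun x m n e h => by
    by_contra hx
    have h1 : 50 ≤ x := not_lt.1 hx
    have h2 : 51 ^ 3 * (50 ^ 2 * 50 * 50 ^ 2) ≤ (x + 1) ^ 3 * (x ^ 2 * x * x ^ 2) := by gcongr; omega
    have h3 := Nat.mul_le_mul_right (Nat.card G) (Nat.gcd_le_left m three_pos)
    omega
  rcases Cfsg.Agent.S0482.result hG h with ⟨F, _, _, -, -, ⟨e⟩⟩ | ⟨F, _, _, -, ⟨e⟩⟩ |
    ⟨F, _, _, q, hq, -, ⟨e⟩⟩ | ⟨F, _, _, hq, ⟨e⟩⟩ | ⟨⟨e⟩⟩ | h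
  · exact res_psl e h2
  · obtain ⟨x, hx⟩ := Nat.exists_eq_succ_of_ne_zero (Fintype.card_ne_zero (α := F))
    have := CL.U3Ch.card_L3 hx
    rw [← Nat.card_congr e.toEquiv] at this
    exact absurd this (g5 x (key x _ _ this (by gcongr <;> nlinarith))).1
  · obtain ⟨x, rfl⟩ := Nat.exists_eq_succ_of_ne_zero (n := q) (by
      rintro rfl; exact Fintype.card_ne_zero hq)
    have := CL.U3Ch.card_U3 hq
    rw [← Nat.card_congr e.toEquiv] at this
    exact absurd this (g5 x (key x _ _ this (by gcongr <;> nlinarith))).2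
  · have := CL.U3Ch.card_U3 (x := 3) hq
    rw [← Nat.card_congr e.toEquiv] at this
    exact absurd (by simpa using this) g2
  · exact absurd (by rw [Nat.card_congr e.toEquiv, nat_card_alternatingGroup]; simp [Nat.factorial]) g3
  · exact absurd h.2 g4

theorem cent_eq [IsSimpleGroup G] (hG : ¬ IsMulCommutative G) {p : ℕ} (hp : p.Prime) (P : Sylow p G)
    (hP : Nat.card P = p) (hN : (P : Subgroup G).relIndex (normalizer ((P : Subgroup G) : Set G)) = 2) :
    centralizer ((P : Subgroup G) : Set G) = P := by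
  have := Fact.mk hp
  have := isCyclic_of_prime_card hP
  have h1 := relIndex_mul_relIndex _ _ _ (le_centralizer (P : Subgroup G))
    (centralizer_le_normalizer ((P : Subgroup G) : Set G))
  rw [hN] at h1
  have h2 := CL.Small.relIndex_centralizer_ne_one hG P (hP ▸ card_subgroup_dvd_card _)
  refine le_antisymm (relIndex_eq_one.1 ?_) (le_centralizer _)
  rcases (Nat.dvd_prime Nat.prime_two).1 (Dvd.intro_left _ h1) with h3 | h3
  · exact absurd h3 h2
  · rw [h3] at h1; omega

theorem ssc_of {A : Subgroup G} (hp : (Nat.card A).Prime) (h : centralizer (A : Set G) = A) :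
    SSC A := fun a ha a1 => by
  have := Fact.mk hp
  have h1 : zpowers a = A := eq_of_le_of_card_ge (zpowers_le.2 ha) (by
    rw [Nat.card_zpowers, ((Nat.dvd_prime hp).1 (orderOf_dvd_natCard A ha)).resolve_left
      (mt orderOf_eq_one_iff.1 a1)])
  rw [← h, ← h1, zpowers_eq_closure, centralizer_closure]

theorem res_of [IsSimpleGroup G] (hG : ¬ IsMulCommutative G) {A : Subgroup G} {p m M : ℕ}
    (hp : p.Prime) (hA : Nat.card A = p) (hc : centralizer (A : Set G) = A)
    (hN : A.relIndex (normalizer (A : Set G)) = 2) (hM : Nat.card G = p * M) (hm : M ∣ 210 ^ m) :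
    Res G := by
  have hs := ssc_of (hA ▸ hp) hc
  obtain ⟨t, ht⟩ := hs.exists_inv (hN ▸ even_two)
  by_cases h3 : p = 3
  · subst h3
    rcases Cfsg.Agent.S3331.result A hA hc with ⟨N, hn, h1, h2, h3⟩ | ⟨N, hn, h1, -, ⟨e⟩⟩ | e
    · exfalso
      rcases hn.eq_bot_or_eq_top with rfl | rfl
      · have h4 := A.card_mul_index
        have h5 := relIndex_dvd_index_of_le (le_normalizer (H := A))
        have h6 := Nat.card_congr (QuotientGroup.quotientBot (G := G)).toEquiv
        rw [hN] at h5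
        rw [hA] at h4
        have h7 : A.index = 2 := by
          rcases h3 with h3 | ⟨⟨e⟩⟩
          · omega
          · have := Nat.card_congr e.toEquiv
            rw [Nat.card_perm, Nat.card_fin, show Nat.factorial 3 = 6 from rfl] at this
            omega
        rcases (normal_of_index_eq_two h7).eq_bot_or_eq_top with rfl | rfl
        · simp at hA
        · simp at h7
      · rw [card_top, hM] at h2
        exact absurd (Nat.Coprime.coprime_mul_right h2) (by decide)
    · rcases hn.eq_bot_or_eq_top with rfl | rfl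
      · exact res_alt (QuotientGroup.quotientBot.symm.trans e)
      · exact (hG ⟨⟨fun a b => congrArg Subtype.val (h1.1.1 ⟨a, trivial⟩ ⟨b, trivial⟩)⟩⟩).elim
    · haveI : Fact (Nat.Prime 7) := ⟨by norm_num⟩
      exact .inl ⟨ZMod 7, inferInstance, inferInstance, by rw [ZMod.card]; decide, e⟩
  have h5 : 5 ≤ p := hp.five_le_of_ne_two_of_ne_three (by
    rintro rfl; exact absurd (hA ▸ ht.odd) (by decide)) h3
  obtain ⟨x, y, κ, F, C⟩ := exists_ctx hG ⟨hs, hN, ht⟩ (by omega)
  rw [hA] at C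
  have h6 := C.good_of hp h5 (m := m) (by rwa [← Nat.eq_of_mul_eq_mul_left hp.pos (hM.symm.trans C.card)])
  simp only [good, frc_eq, ← C.card, Bool.or_eq_true, Bool.and_eq_true, beq_iff_eq, bne_iff_ne,
    decide_eq_true_eq] at h6
  rcases h6 with ⟨⟨h1, h2⟩, h4⟩ | ⟨⟨h1, h2⟩, h4⟩
  · rcases Cfsg.Agent.S0348.result (G := G) (by
      by_contra hn; push Not at hn; exact hG ⟨⟨hn⟩⟩) (fun u hu => by
      obtain ⟨k, -, hk⟩ := (Nat.dvd_prime_pow Nat.prime_two).1 (Nat.dvd_of_mod_eq_zero h1)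
      refine IsPGroup.of_card (n := k) ?_
      rw [← card_cent_conj (C.isConj u (by rw [← pow_two, ← hu, pow_orderOf_eq_one]) (by
        rintro rfl; simp at hu)), C.cent, hk]) with ⟨F, _, _, -, ⟨e⟩⟩ | h | ⟨-, n, -, h⟩
    · exact res_psl e h4
    · exact .inr h
    · exfalso
      have : 2 ^ (2 * n + 1) % 3 = 2 := by rw [pow_succ, pow_mul, Nat.mul_mod, Nat.pow_mod]; simp
      obtain ⟨k, hk⟩ : ∃ k, 2 ^ (2 * n + 1) = 3 * k + 2 := ⟨2 ^ (2 * n + 1) / 3, by omega⟩
      rw [h, hk, show 3 * k + 2 - 1 = 3 * k + 1 from rfl] at h2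
      simp [Nat.mul_mod, Nat.add_mod, Nat.pow_mod] at h2
  · refine res_rank hG ?_ h2 h4
    rcases h1 with h1 | h1
    · exact C.rank_of (by tauto)
    simp only [exa, Bool.or_eq_true, Bool.and_eq_true, beq_iff_eq, bne_iff_ne, decide_eq_true_eq,
      allB_iff] at h1
    obtain ⟨⟨⟨⟨rfl, rfl⟩, h7⟩, h8⟩, h9⟩ := h1
    refine C.rank_exa h7 (by omega) fun n n1 n2 => ?_
    have := h9 n (Nat.lt_succ_of_le (Nat.le_of_dvd (by omega) n1))
    have := Nat.mod_eq_zero_of_dvd n1
    change 2 * p * (y + 1) ≤ n * (y + 1 + 1) at n2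
    omega

end CL.Ix2
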