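import Cfsg.Agent.INV.Ix2.Ctx

/-! Criteria for `2`-rank at most two. -/

set_option autoImplicit false
open Cfsg CL.PF CL.Char CL.Odd Subgroup CL.SCS
open scoped Classical

namespace CL.Ix2

variable {G : Type*} [Group G] [Finite G]

theorem eight_dvd {E : Subgroup G} (h : ∀ a ∈ E, a ^ 2 = 1) (h4 : ¬ Nat.card E ≤ 2 ^ 2) :
    8 ∣ Nat.card E := by
  have : IsPGroup 2 E := fun a => ⟨1, Subtype.ext (h a a.2)⟩
  obtain ⟨k, hk⟩ := this.exists_card_eq
  rw [hk] at h4 ⊢
  exact pow_dvd_pow 2 (show 3 ≤ k from not_le.1 fun e => h4 (Nat.pow_le_pow_right two_pos e))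

theorem rank_of_ssc {B : Subgroup G} (hB : SSC B) (ho : Odd (Nat.card B)) {w : G} (hw : w ∈ B)
    (w1 : w ≠ 1) (hi : ¬ 4 ∣ (normalizer (B : Set G)).index) : PRankLE 2 2 G := by
  intro E hE h2
  by_contra h4
  have h8 := eight_dvd h2 h4
  have := Fintype.ofFinite G
  apply hi
  rw [index, Nat.card_eq_fintype_card,
    MulAction.card_eq_sum_card_group_div_card_stabilizer E (G ⧸ normalizer (B : Set G))]
  refine Finset.dvd_sum fun ω _ => ?_
  obtain ⟨g, hg⟩ := QuotientGroup.mk_surjective ω.out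
  rw [← hg]
  set o : G ⧸ normalizer (B : Set G) := QuotientGroup.mk g
  have key : ∀ e : MulAction.stabilizer E o, e ≠ 1 → Inv B (g⁻¹ * e.1.1 * g) := fun e e1 => by
    have h1 : (((e.1 : G) * g : G) : G ⧸ normalizer (B : Set G)) = g := e.2
    refine hB.inv_of ho (by simpa [mul_assoc] using inv_mem (QuotientGroup.eq.1 h1)) ?_
      (conj_ne_one (fun h => e1 (Subtype.ext (Subtype.ext h))) g)
    have := h2 _ e.1.2
    calc _ = g⁻¹ * e.1.1 ^ 2 * g := by simp [pow_two, mul_assoc]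
      _ = 1 := by rw [this]; group
  have h3 : Fintype.card (MulAction.stabilizer E o) ≤ 2 := by
    by_contra hn
    obtain ⟨a, b, ha, hb, hab⟩ : ∃ a b : MulAction.stabilizer E o, a ≠ 1 ∧ b ≠ 1 ∧ a ≠ b := by
      obtain ⟨a, b, c, h1, h2, h3⟩ := Fintype.two_lt_card_iff.1 (not_le.1 hn)
      by_cases a1 : a = 1
      · exact ⟨b, c, a1 ▸ h1.symm, a1 ▸ h2.symm, h3⟩
      by_cases b1 : b = 1
      · exact ⟨a, c, a1, b1 ▸ h3.symm, h2⟩
      · exact ⟨a, b, a1, b1, h1⟩
    have h5 := key (a⁻¹ * b) fun e => hab (inv_mul_eq_one.1 e)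
    refine h5.not_mem (hB.mem_of_comm hw w1 ?_)
    have h6 := (key a⁻¹ (inv_ne_one.2 ha)).inv _ (B.inv_mem hw)
    have h7 := (key b hb).inv w hw
    simp only [coe_mul, coe_inv] at h6 ⊢
    calc _ = g⁻¹ * (a.1.1)⁻¹ * g * (g⁻¹ * b.1.1 * g * w * (g⁻¹ * b.1.1 * g)⁻¹) *
        (g⁻¹ * (a.1.1)⁻¹ * g)⁻¹ * (g⁻¹ * ((a.1.1)⁻¹ * b.1.1) * g) := by group
      _ = _ := by rw [h7, h6, inv_inv]
  have h5 : 0 < Fintype.card (MulAction.stabilizer E o) := Fintype.card_pos
  rw [Nat.card_eq_fintype_card] at h8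
  interval_cases Fintype.card (MulAction.stabilizer E o) <;> omega

namespace Ctx
variable {A : Subgroup G} {t : G} {p x y κ : ℕ} {F : G → ℕ}

theorem rank_of (C : Ctx A t p x y κ F) (h : Nat.card G % 8 ≠ 0 ∨ F t % 8 ≠ 0 ∨ 8 * x < 7 * F t ∨
    8 * y < 7 * F t) : PRankLE 2 2 G := by
  intro E hE h2
  by_contra h4
  have h8 := eight_dvd h2 h4
  obtain ⟨c1, c2, c3⟩ := C.const E (fun g hg => not_mem_X_of_sq C.two.inv.odd (pow_two g ▸ h2 g hg))
    (F t) fun g hg g1 => (C.conj g t (C.isConj g (pow_two g ▸ h2 g hg) g1)).symm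
  have h1 := h8.trans (card_subgroup_dvd_card E)
  have h3 := h8.trans c1
  obtain ⟨n, hn⟩ : ∃ n, Nat.card E = n + 8 := ⟨Nat.card E - 8, by
    have := Nat.le_of_dvd Nat.card_pos h8; omega⟩
  rw [hn, show n + 8 - 1 = n + 7 from rfl] at c2 c3
  rcases h with h | h | h | h
  · omega
  · omega
  · nlinarith
  · nlinarith

theorem rank_exa (C : Ctx A t p (y + 1) y 1 F) (h1 : F t = y) (h4 : y % 4 = 0)
    (hm : ∀ m, m ∣ y + 1 → 2 * p * (y + 1) ≤ m * (y + 2) → m = y + 1) : PRankLE 2 2 G := by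
  have y0 := C.y0
  have h0 : (1 : G) ∈ fs (X A)ᶜ := mem_fs.2 fun e => X_ne_one e rfl
  have hF : ∀ g, g ∉ X A → g ≠ 1 → F g = y + 1 ∨ F g = y := fun g gX g1 => by
    have s := C.su
    rw [← Finset.add_sum_erase _ _ h0, C.one, show uu (y + 1) y 0 = (y + 1) * y * 1 ^ 2 by
      simp only [uu, Nat.cast_zero, sub_zero, Int.natAbs_natCast]; ring,
      Nat.add_eq_left, Finset.sum_eq_zero_iff] at s
    have := s g (by simp [gX, g1])
    simp only [uu, mul_eq_zero, Int.natAbs_eq_zero] at this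
    omega
  have hX : ∀ g ∈ X A, F g = y + 2 := fun g hg => by rw [C.FX g hg]; omega
  set Z := fs {g | F g = y + 1}
  have hZ : ∀ g, g ∈ Z ↔ F g = y + 1 := by simp [Z]
  have Z1 : ∀ g, F g = y + 1 → g ∉ X A ∧ g ≠ 1 := fun g hg =>
    ⟨fun e => by have := hX g e; omega, by rintro rfl; have := C.one; omega⟩
  have cZ : Z.card = y * (y + 2) := by
    have s := C.sv
    rw [← Finset.add_sum_erase _ _ h0, C.one, ← Finset.sum_subset (s₁ := Z) (fun g hg => by
      simpa [and_comm] using Z1 g ((hZ g).1 hg)) fun g hg hg' => by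
        rw [(hF g (by simpa using (Finset.mem_erase.1 hg).2) (Finset.mem_erase.1 hg).1).resolve_left
          fun e => hg' ((hZ g).2 e)]; simp [vv],
      Finset.sum_congr rfl (g := fun _ => 1) fun g hg => by rw [(hZ g).1 hg]; simp [vv]] at s
    simp only [vv, Nat.cast_zero, sub_zero, Int.natAbs_natCast, Finset.sum_const, smul_eq_mul] at s
    nlinarith
  have hi : (centralizer ({t} : Set G)).index = p * (y + 1) := by
    have := (centralizer ({t} : Set G)).card_mul_index
    rw [C.cent, C.card, h1] at this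
    exact Nat.eq_of_mul_eq_mul_left y0 (by linear_combination this)
  have p0 : 0 < p := C.cardA ▸ Nat.card_pos
  have sZ : ∑ g ∈ Z, (ff t g : ℤ) = 2 * p * (y + 1) * y := by
    have := Fintype.ofFinite G
    have s1 := C.sff
    have s2 : ∑ g, (ff t g : ℤ) = (centralizer ({t} : Set G)).index ^ 2 := by exact_mod_cast sum_ff t
    have s3 := C.two.ssc.sum_X_const (fun g => ff t g) (fun k g => by rw [ff_conj]) p fun a ha a1 => by
      rw [C.two.ssc.ff_of_isConj C.two.inv (IsConj.refl t) ha a1, C.cardA]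
    rw [SSC.card_normalizer, C.two.idx, C.card, C.cardA] at s3
    have s4 : ∑ g, (ff t g : ℤ) * F g = y * ∑ g, (ff t g : ℤ) + ∑ g ∈ Z, (ff t g : ℤ) +
        2 * ∑ g ∈ fs (X A), (ff t g : ℤ) - y * ff t 1 := by
      rw [← Finset.univ_inter Z, ← Finset.univ_inter (fs (X A)), ← Finset.sum_ite_mem,
        ← Finset.sum_ite_mem, ← Finset.sum_ite_eq_of_mem' Finset.univ 1 (fun g => (ff t g : ℤ))
          (Finset.mem_univ _), Finset.mul_sum, Finset.mul_sum, Finset.mul_sum,
        ← Finset.sum_add_distrib, ← Finset.sum_add_distrib, ← Finset.sum_sub_distrib]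
      refine Finset.sum_congr rfl fun g _ => ?_
      simp only [hZ, mem_fs]
      by_cases g1 : g = 1
      · subst g1; simp [C.one, show (1 : G) ∉ X A from fun e => X_ne_one e rfl]
      by_cases gX : g ∈ X A
      · simp [g1, gX, hX g gX]; ring
      rcases hF g gX g1 with e | e <;> simp [g1, gX, e] <;> ring
    rw [show fs (Set.univ : Set G) = Finset.univ by ext; simp, s4, s2, ff_one C.two.inv.sq, hi,
      h1] at s1
    push_cast at s1 s3
    refine mul_left_cancel₀ (show ((y : ℤ) + 1) * p ≠ 0 by positivity) ?_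
    linear_combination p * s1 - (y + 1) * s3
  obtain ⟨w, hw, w2⟩ := Finset.exists_le_of_sum_le (s := Z) (f := fun _ => 2 * p * (y + 1))
    (g := fun g => ff t g * (y + 2)) (Finset.card_pos.1 (by rw [cZ]; positivity)) (by
      rw [Finset.sum_const, cZ, smul_eq_mul]
      zify; rw [← Finset.sum_mul, sZ]; exact le_of_eq (by ring))
  rw [hZ] at hw
  have cd : ∀ g, F g = y + 1 → Nat.card (centralizer ({g} : Set G)) ∣ y + 1 := fun g hg => by
    simpa [hg] using C.dvd g (Z1 g hg).1 (Z1 g hg).2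
  set B := centralizer ({w} : Set G)
  have cB : Nat.card B = y + 1 := hm _ (cd w hw)
    (w2.trans (Nat.mul_le_mul_right _ (ff_le C.two.inv.sq w)))
  have wB : w ∈ B := mem_centralizer_singleton_iff.2 rfl
  have hb : ∀ b ∈ B, b ≠ 1 → F b = y + 1 := fun b hb b1 => by
    have e := mem_centralizer_singleton_iff.1 hb
    have bX : b ∉ X A := fun h => (Z1 w hw).1 (C.two.ssc.mem_X_of_comm h (Z1 w hw).2 e.symm)
    refine (hF b bX b1).resolve_right fun e' => (Z1 w hw).2 (orderOf_eq_one_iff.1 ?_)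
    have h2 := (orderOf_dvd_natCard _ (mem_centralizer_singleton_iff.2 e.symm)).trans (C.dvd b bX b1)
    rw [e', one_mul] at h2
    exact Nat.dvd_one.1 ((Nat.dvd_add_right h2).1 (cB ▸ orderOf_dvd_natCard _ wB))
  obtain ⟨u, hu⟩ : (fs {u | IsConj t u ∧ IsConj t (u⁻¹ * w)}).Nonempty :=
    Finset.card_pos.1 (Nat.pos_of_ne_zero fun e => by
      rw [ff, e, zero_mul] at w2; exact absurd w2 (not_le.2 (by positivity)))
  have hu' : IsConj t u ∧ IsConj t (u⁻¹ * w) := by simpa only [mem_fs, Set.mem_setOf_eq] using hu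
  have u1 := inverts_of_mem C.two.inv.sq hu'
  have u2 := sq_of_isConj C.two.inv.sq hu'.1
  have u3 := ne_of_isConj C.two.inv.ne hu'.1
  have u4 : ∀ b ∈ B, u * b * u⁻¹ ∈ B := fun b hb => by
    have e := (Commute.inv_right (mem_centralizer_singleton_iff.1 hb)).eq
    refine mem_centralizer_singleton_iff.2 ?_
    have : u * w⁻¹ * u⁻¹ = w := by rw [← conj_inv, u1, inv_inv]
    have e2 := congrArg (fun z => u * z * u⁻¹) e
    simp only [← conj_mul, this] at e2
    exact e2
  have u5 := CL.Frob.conj_eq_inv_of_involution (H := B) u2 (mem_normalizer_fintype u4) (by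
    refine eq_bot_iff.2 fun b ⟨h2, h3⟩ => by_contra fun b1 => ?_
    have h5 := (orderOf_dvd_natCard _ (mem_centralizer_singleton_iff.2
      (mem_centralizer_singleton_iff.1 h3).symm)).trans (cd b (hb b h2 b1))
    rw [orderOf_eq_prime (p := 2) (pow_two u ▸ u2) u3] at h5
    omega)
  have hB : SSC B := fun b h2 b1 => by
    refine (eq_of_le_of_card_ge (fun c hc => mem_centralizer_singleton_iff.2 ?_)
      (cB ▸ Nat.le_of_dvd (by omega) (cd b (hb b h2 b1)))).symm
    have := u5 _ (B.mul_mem hc h2)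
    rw [← conj_mul, u5 c hc, u5 b h2, ← mul_inv_rev, inv_inj] at this
    exact this.symm
  have hZ' : fs (X B) = Z := by
    ext g
    rw [mem_fs, hZ]
    refine ⟨fun ⟨b, h2, b1, e⟩ => C.conj b g e ▸ hb b h2 b1, fun hg => by_contra fun hn => ?_⟩
    have := (hB.coprime_cent (Z1 g hg).2 hn).eq_one_of_dvd (cB ▸ cd g hg)
    rw [card_eq_one] at this
    exact (Z1 g hg).2 (mem_bot.1 (this ▸ mem_centralizer_singleton_iff.2 rfl))
  have e1 := hB.card_X
  rw [hZ', cZ, cB, ← (normalizer (B : Set G)).card_mul_index] at e1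
  push_cast at e1
  have e2 : ((normalizer (B : Set G)).index : ℤ) = y + 2 :=
    mul_left_cancel₀ (show (Nat.card (normalizer (B : Set G)) : ℤ) * y ≠ 0 by
      have : 0 < Nat.card (normalizer (B : Set G)) := Nat.card_pos
      positivity) (by linear_combination -e1)
  exact rank_of_ssc hB (cB ▸ Nat.odd_iff.2 (by omega)) wB (Z1 w hw).2 (by omega)

end Ctx

end CL.Ix2
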