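import Mathlib

/-! Størmer's theorem for the primes `2, 3, 5, 7`. -/

set_option autoImplicit false

namespace CL.Ix2

open Pell Pell.Solution₁

/-- `(x + √(x² - 1)) ^ k = X + U √(x² - 1)` -/
def sq (x : ℤ) : ℕ → ℤ × ℤ
  | 0 => (1, 0)
  | k + 1 => ((sq x k).1 * x + (x ^ 2 - 1) * (sq x k).2, (sq x k).1 + (sq x k).2 * x)

theorem sq_add (x : ℤ) (i : ℕ) : ∀ j, sq x (i + j) =
    ((sq x i).1 * (sq x j).1 + (x ^ 2 - 1) * (sq x i).2 * (sq x j).2,
      (sq x i).1 * (sq x j).2 + (sq x i).2 * (sq x j).1)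
  | 0 => by simp [sq]
  | j + 1 => by
    rw [← add_assoc, sq, sq_add x i j, sq]
    ext <;> simp only <;> ring

theorem sq_norm (x : ℤ) : ∀ k, (sq x k).1 ^ 2 - (x ^ 2 - 1) * (sq x k).2 ^ 2 = 1
  | 0 => by simp [sq]
  | k + 1 => by rw [sq]; linear_combination sq_norm x k

theorem sq_dvd (x : ℤ) (i : ℕ) : ∀ m, (sq x i).2 ∣ (sq x (i * m)).2
  | 0 => by simp [sq]
  | m + 1 => by
    rw [mul_add, mul_one, sq_add]
    exact dvd_add (dvd_mul_left _ _) ((sq_dvd x i m).mul_right _)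

theorem sq_pow {d : ℤ} (a : Solution₁ d) : ∀ k, (a ^ k).x = (sq a.x k).1 ∧ (a ^ k).y = a.y * (sq a.x k).2
  | 0 => by simp [sq]
  | k + 1 => by
    obtain ⟨h1, h2⟩ := sq_pow a k
    rw [pow_succ, x_mul, y_mul, h1, h2, sq]
    exact ⟨by linear_combination (sq a.x k).2 * a.prop_y, by ring⟩

theorem sq_pos {x : ℤ} (hx : 2 ≤ x) : ∀ k, 0 < (sq x k).1 ∧ (k : ℤ) ≤ (sq x k).2
  | 0 => by simp [sq]
  | k + 1 => by
    obtain ⟨h1, h2⟩ := sq_pos hx k
    have h3 : 0 ≤ (sq x k).2 := (Int.natCast_nonneg k).trans h2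
    have h4 : 0 ≤ x ^ 2 - 1 := by nlinarith
    rw [sq]
    refine ⟨by positivity, ?_⟩
    push_cast
    nlinarith

theorem not_dvd_sq {x s : ℤ} {l r : ℕ} (h : l.Coprime r) (hr : 1 < r) (h1 : s ∣ (sq x l).2)
    (h2 : s ∣ (sq x r).2) : s ∣ 1 := by
  obtain ⟨m, -, hm⟩ := Nat.exists_mul_mod_eq_one_of_coprime h hr
  have h3 := h1.trans (sq_dvd x l m)
  have h4 := h2.trans (sq_dvd x r (l * m / r))
  rw [← Nat.div_add_mod (l * m) r, hm, sq_add] at h3
  simp only [sq] at h3
  have h5 : s ∣ (sq x (r * (l * m / r))).1 := by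
    have := (dvd_add_left (h4.mul_right _)).1 h3
    simpa using this
  rw [← sq_norm x (r * (l * m / r))]
  exact dvd_sub (dvd_pow h5 two_ne_zero) ((dvd_pow h4 two_ne_zero).mul_left _)

/-- a witness that `y` has a prime factor greater than `7` -/
def nsm (y : ℕ) : Bool := y / y.gcd (210 ^ 40) != 1 && (y / y.gcd (210 ^ 40)).gcd 210 == 1

theorem not_nsm {y m : ℕ} (h : y ∣ 210 ^ m) : nsm y = false := by
  by_contra e
  simp only [nsm, Bool.not_eq_false, Bool.and_eq_true, bne_iff_ne, beq_iff_eq] at e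
  exact e.1 (Nat.Coprime.eq_one_of_dvd (Nat.Coprime.pow_right m e.2)
    ((Nat.div_dvd_of_dvd (Nat.gcd_dvd_left _ _)).trans h))

/-- the list of Størmer numbers -/
def L23 : List ℕ :=
  [1, 2, 3, 4, 5, 6, 7, 8, 9, 14, 15, 20, 24, 27, 35, 48, 49, 63, 80, 125, 224, 2400, 4374]

/-- the test for a fundamental solution -/
def tst (d x y : ℕ) : Bool :=
  decide (1 < x) && decide (0 < y) && x ^ 2 == 1 + d * y ^ 2 &&
  ((List.range x).all fun a => (List.range x).all fun b => a ≤ 1 || a ^ 2 != 1 + d * b ^ 2) &&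
  ([2, 3, 5, 7].all fun s : ℤ => [2, 3, 4, 5, 7].any fun r => (sq x r).2 % s == 0) &&
  ([5, 6, 7, 8, 9].all fun k => nsm (sq x k).2.natAbs) &&
  [1, 2, 3, 4].all fun k => nsm (sq x k).2.natAbs || (sq x k).1 % 2 == 0 ||
    L23.contains ((sq x k).1.natAbs / 2)

theorem small {k : ℕ} (h0 : k ≠ 0) (h1 : ∀ l, l.Prime → l ∣ k → l < 11)
    (h2 : ∀ l ∈ [5, 6, 7, 8, 9], ¬ l ∣ k) : k ∈ [1, 2, 3, 4] := by
  have h3 : k ∣ 12 := by
    rw [← Nat.factorization_prime_le_iff_dvd h0 (by norm_num)]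
    intro l hl
    by_contra hn
    have h4 := Nat.ordProj_dvd k l
    have h5 : l ^ ((12 : ℕ).factorization l + 1) ∣ k := (pow_dvd_pow l (by omega)).trans h4
    have h6 := h1 l hl ((dvd_pow_self l (by omega)).trans h5)
    simp only [List.mem_cons, List.not_mem_nil, or_false, forall_eq_or_imp, forall_eq] at h2
    have f2 : (12 : ℕ).factorization 2 = 2 := by decide +kernel
    have f3 : (12 : ℕ).factorization 3 = 1 := by decide +kernel
    have h7 : l ∣ k := (dvd_pow_self l (by omega)).trans h5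
    interval_cases l
    all_goals first | (exact absurd hl (by decide)) | (rw [f2] at h5; omega) | (rw [f3] at h5; omega) | omega
  have h4 := Nat.le_of_dvd (by norm_num) h3
  simp only [List.mem_cons, List.not_mem_nil, or_false, forall_eq_or_imp, forall_eq] at h2 ⊢
  interval_cases k <;> omega

theorem of_tst {d x y n Y m : ℕ} (h : tst d x y = true) (hn : 0 < n)
    (e : (2 * n + 1) ^ 2 = 1 + d * Y ^ 2) (hY : Y ∣ 210 ^ m) : n ∈ L23 := by
  simp only [tst, Bool.and_eq_true, decide_eq_true_eq, beq_iff_eq, List.all_eq_true, List.mem_range,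
    Bool.or_eq_true, bne_iff_ne, List.any_eq_true, List.contains_iff_mem] at h
  obtain ⟨⟨⟨⟨⟨⟨h1, h2⟩, h3⟩, h4⟩, h5⟩, h6⟩, h7⟩ := h
  let a : Solution₁ d := .mk x y (by zify at h3; linarith)
  let b : Solution₁ d := .mk (2 * n + 1 : ℕ) Y (by zify at e; push_cast; linarith)
  have ha : IsFundamental a := by
    refine ⟨by simpa [a] using h1, by simpa [a] using h2, fun {c} hc => ?_⟩
    by_contra hlt
    have hd : 0 < (d : ℤ) := d_pos_of_one_lt_x hc
    have h8 := c.prop_x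
    have h9 : c.x < x := by simpa [a] using hlt
    have h10 : c.y.natAbs < x := by
      have : c.y ^ 2 < (x : ℤ) ^ 2 := by nlinarith [sq_nonneg c.y]
      have := abs_lt_of_sq_lt_sq this (by positivity)
      rw [Int.abs_eq_natAbs] at this
      exact_mod_cast this
    rcases h4 c.x.natAbs (by omega) _ h10 with h11 | h11
    · omega
    · apply h11; zify; rw [sq_abs, sq_abs]; exact h8
  obtain ⟨k, hk⟩ := ha.eq_pow_of_nonneg (a := b) (by simp [b]) (by simp [b])
  obtain ⟨e1, e2⟩ := sq_pow a k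
  rw [← hk] at e1 e2
  simp only [a, b, x_mk, y_mk] at e1 e2
  have hx : (2 : ℤ) ≤ x := by omega
  have hs : ∀ l, l ∣ k → (sq x l).2.natAbs ∣ 210 ^ m := by
    rintro l ⟨c, rfl⟩
    refine Dvd.dvd.trans ?_ hY
    rw [← Int.natCast_dvd_natCast, Int.natAbs_dvd, e2]
    exact (sq_dvd x l c).mul_left _
  have hk' : k ∈ [1, 2, 3, 4] := by
    refine small ?_ (fun l hl hlk => ?_) fun l hl hlk => ?_
    · rintro rfl
      simp only [sq] at e1
      omega
    · by_contra hl1
      have h8 := (sq_pos hx l).2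
      obtain ⟨s, hs1, hs2⟩ := Nat.exists_prime_and_dvd (n := (sq x l).2.natAbs) (by omega)
      have h9 : s ∣ 210 := hs1.dvd_of_dvd_pow (hs2.trans (hs l hlk))
      have h10 : (s : ℤ) ∈ ([2, 3, 5, 7] : List ℤ) := by
        have := (Nat.mem_primeFactors.2 ⟨hs1, h9, by norm_num⟩)
        rw [show Nat.primeFactors 210 = {2, 3, 5, 7} by decide +kernel] at this
        simp only [Finset.mem_insert, Finset.mem_singleton] at this
        rcases this with rfl | rfl | rfl | rfl <;> simp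
      obtain ⟨r, hr, hr'⟩ := h5 _ h10
      have h11 : 1 < r ∧ r < 11 := by
        simp only [List.mem_cons, List.not_mem_nil, or_false] at hr; omega
      have := not_dvd_sq (x := x) (s := s) (r := r) (Nat.coprime_of_lt_prime (by omega) (by omega) hl) h11.1
        (Int.natCast_dvd.2 hs2) (Int.dvd_of_emod_eq_zero hr')
      exact hs1.one_lt.ne' (by exact_mod_cast Int.eq_one_of_dvd_one (by positivity) this)
    · have := not_nsm (hs l hlk)
      rw [h6 l hl] at this
      exact absurd this (by simp)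
  rcases h7 k hk' with (h8 | h8) | h8
  · rw [not_nsm (hs k dvd_rfl)] at h8; exact absurd h8 (by simp)
  · omega
  · rwa [← e1, Int.natAbs_natCast, show (2 * n + 1) / 2 = n by omega] at h8

theorem stormer {n m : ℕ} (hn : 0 < n) (h : n * (n + 1) ∣ 210 ^ m) : n ∈ L23 := by
  obtain ⟨d, Y, e, hd⟩ := Nat.sq_mul_squarefree (4 * (n * (n + 1)))
  have h1 : Y ^ 2 * d ∣ 210 ^ (m + 2) := by
    rw [e, pow_add, mul_comm]; exact mul_dvd_mul h (by norm_num)
  have h2 : d ∣ 210 := (hd.dvd_pow_iff_dvd (by omega)).1 ((dvd_mul_left _ _).trans h1)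
  have h3 : Y ∣ 210 ^ (m + 2) := ((dvd_pow_self Y two_ne_zero).mul_right _).trans h1
  have h4 : (2 * n + 1) ^ 2 = 1 + d * Y ^ 2 := by rw [mul_comm d, e]; ring
  have h5 : d ∈ Nat.divisors 210 := Nat.mem_divisors.2 ⟨h2, by norm_num⟩
  rw [show Nat.divisors 210 = {1, 2, 3, 5, 6, 7, 10, 14, 15, 21, 30, 35, 42, 70, 105, 210} by
    decide +kernel] at h5
  simp only [Finset.mem_insert, Finset.mem_singleton] at h5
  rcases h5 with rfl | h5
  · exfalso
    have h6 : Y < 2 * n + 1 := by nlinarith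
    have h7 : 2 * n < Y := by nlinarith
    omega
  have key : ∀ d ∈ [2, 3, 5, 6, 7, 10, 14, 15, 21, 30, 35, 42, 70, 105, 210], ∃ p ∈
      [(3, 2), (2, 1), (9, 4), (5, 2), (8, 3), (19, 6), (15, 4), (4, 1), (55, 12), (11, 2), (6, 1),
        (13, 2), (251, 30), (41, 4), (29, 2)], tst d p.1 p.2 = true := by decide +kernel
  obtain ⟨p, -, hp⟩ := key d (by simpa using h5)
  exact of_tst hp hn h4 h3

end CL.Ix2
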